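import Groth.Agent.OmegaLib.IdealMod
import Groth.Agent.GeomField.GlobalFunctions
import Groth.Agent.S1628
import Groth.Agent.S9821
import Groth.Agent.AModX.Res
import Groth.Prelude.Def_KLin
import Mathlib.RingTheory.IntegralClosure.IntegrallyClosed
import Mathlib.LinearAlgebra.Charpoly.Basic

/-!
Endomorphisms of an ideal sheaf on a normal variety are the scalars.
-/

set_option autoImplicit false
set_option linter.style.haveILetI false
set_option backward.isDefEq.respectTransparency false
set_option backward.isDefEq.respectTransparency.types false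

universe u

open CategoryTheory CategoryTheory.Limits AlgebraicGeometry TopologicalSpace Opposite
open Groth.Agent.AModX

noncomputable section

namespace Groth.Agent.RankOneEnd

/-- An endomorphism of a nonzero finitely generated ideal of an integrally closed domain is a scalar. -/
theorem exists_scalar {A : Type u} [CommRing A] [IsDomain A] [IsIntegrallyClosed A] {M : Type u} [AddCommGroup M]
    [Module A M] [Module.Finite A M] (ι : M →ₗ[A] A) (hι : Function.Injective ι) (φ : M →ₗ[A] M) :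
    ∃ r : A, ∀ m, φ m = r • m := by
  by_cases h0 : ∀ m : M, m = 0
  · exact ⟨0, fun m => (h0 _).trans (h0 _).symm⟩
  obtain ⟨a, ha⟩ := not_forall.1 h0
  have ha' : ι a ≠ 0 := fun h => ha (hι (h.trans (map_zero ι).symm))
  have key : ∀ m, ι (φ m) * ι a = ι (φ a) * ι m := fun m => by
    have e : ι a • m = ι m • a := hι (by rw [map_smul, map_smul, smul_eq_mul, smul_eq_mul, mul_comm])
    have h1 := congrArg (fun z => ι (φ z)) e
    simp only [map_smul, smul_eq_mul] at h1
    linear_combination h1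
  let K := FractionRing A
  let r : K := algebraMap A K (ι (φ a)) / algebraMap A K (ι a)
  have ha'' : algebraMap A K (ι a) ≠ 0 := fun h => ha' (IsFractionRing.injective A K (h.trans (map_zero _).symm))
  have hr : ∀ m, algebraMap A K (ι (φ m)) = r * algebraMap A K (ι m) := fun m => by
    rw [div_mul_eq_mul_div, eq_div_iff ha'', ← (algebraMap A K).map_mul, ← (algebraMap A K).map_mul, key]
  obtain ⟨p, hp, hpφ⟩ := LinearMap.exists_monic_and_aeval_eq_zero A φ
  have hev : ∀ q : Polynomial A, algebraMap A K (ι (Polynomial.aeval φ q a)) =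
      Polynomial.aeval r q * algebraMap A K (ι a) := by
    intro q
    induction q using Polynomial.induction_on' with
    | add p q hp hq => simp only [map_add, LinearMap.add_apply, hp, hq, add_mul]
    | monomial n c =>
      have hn : ∀ n : ℕ, algebraMap A K (ι ((φ ^ n) a)) = r ^ n * algebraMap A K (ι a) := by
        intro n
        induction n with
        | zero => simp
        | succ n ih => rw [pow_succ', Module.End.mul_apply, hr, ih, pow_succ', mul_assoc]
      simp only [Polynomial.aeval_monomial, Module.End.mul_apply, Module.algebraMap_end_apply, map_smul,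
        smul_eq_mul, map_mul, hn, mul_assoc]
  have hint : IsIntegral A r := by
    refine ⟨p, hp, ?_⟩
    have h := hev p
    rw [hpφ, LinearMap.zero_apply, map_zero, map_zero] at h
    exact (mul_eq_zero.1 h.symm).resolve_right ha''
  obtain ⟨r₀, hr₀⟩ := IsIntegrallyClosed.isIntegral_iff.1 hint
  refine ⟨r₀, fun m => hι (IsFractionRing.injective A K ?_)⟩
  rw [hr, map_smul, smul_eq_mul, map_mul, hr₀]

variable {X : Scheme.{u}} (W : X.IdealSheafData)

/-- Sections of the ideal. -/
abbrev Id (U : X.Opens) : Type u := Γ(ClSub.idealMod W, U)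

/-- The inclusion, as a linear map. -/
def inc (U : X.Opens) : Id W U →ₗ[Γ(X, U)] Γ(X, U) where
  toFun k := OmegaSh.idealSect W U k
  map_add' a b := map_add (OmegaSh.idealSect W U) a b
  map_smul' r k := OmegaLib.idealSect_smul W U r k

theorem inc_injective (U : X.Opens) : Function.Injective (inc W U) := OmegaLib.idealSect_injective W U

variable [IsIntegral X]

theorem ideal_ne_bot (hW : W ≠ ⊥) (U : X.affineOpens) [Nonempty U.1] : W.ideal U ≠ ⊥ := by
  intro hU
  refine hW (Scheme.IdealSheafData.ext (funext fun V => ?_))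
  show W.ideal V = ⊥
  by_cases hV : (V.1 : Set X).Nonempty
  · obtain ⟨x, hxU, hxV⟩ := nonempty_preirreducible_inter U.1.2 V.1.2 (Set.nonempty_coe_sort.1 ‹_›) hV
    obtain ⟨f, g, hfg, hxf⟩ := exists_basicOpen_le_affine_inter U.2 V.2 x ⟨hxU, hxV⟩
    let B : X.affineOpens := ⟨X.basicOpen g, V.2.basicOpen g⟩
    have hBU : B ≤ U := show X.basicOpen g ≤ U.1 from hfg ▸ X.basicOpen_le f
    have hBV : B ≤ V := X.basicOpen_le g
    haveI : Nonempty B.1 := ⟨⟨x, show x ∈ X.basicOpen g from hfg ▸ hxf⟩⟩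
    have h1 : W.ideal B = ⊥ := by rw [← W.map_ideal hBU, hU, Ideal.map_bot]
    rw [← W.map_ideal hBV] at h1
    exact (Ideal.map_eq_bot_iff_of_injective (map_injective_of_isIntegral X (homOfLE hBV))).1 h1
  · haveI : Subsingleton Γ(X, V.1) := CommRingCat.subsingleton_of_isTerminal
      (X.sheaf.isTerminalOfEqEmpty (Opens.ext (Set.not_nonempty_iff_eq_empty.1 hV)))
    exact Subsingleton.elim _ _

theorem exists_ne_zero (hW : W ≠ ⊥) (U : X.affineOpens) [Nonempty U.1] : ∃ k : Id W U.1, k ≠ 0 := by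
  obtain ⟨a, ha, ha0⟩ := Submodule.exists_mem_ne_zero_of_ne_bot (ideal_ne_bot W hW U)
  obtain ⟨k, hk⟩ := OmegaLib.exists_of_mem W U a ha
  exact ⟨k, fun h => ha0 (by rw [← hk, h]; exact map_zero _)⟩

variable {W}

/-- Acting as a scalar. -/
def IsScalarOn (φ : ClSub.idealMod W ⟶ ClSub.idealMod W) (U : X.Opens) (r : Γ(X, U)) : Prop :=
  ∀ (V : X.Opens) (h : V ≤ U) (k : Id W V), φ.app V k = resR h r • k

theorem IsScalarOn.res {φ : ClSub.idealMod W ⟶ ClSub.idealMod W} {U : X.Opens} {r : Γ(X, U)}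
    (hr : IsScalarOn φ U r) {U' : X.Opens} (h : U' ≤ U) : IsScalarOn φ U' (resR h r) := fun V hV k => by
  rw [resR_resR, hr V (hV.trans h) k]

theorem IsScalarOn.unique {φ : ClSub.idealMod W ⟶ ClSub.idealMod W} (hW : W ≠ ⊥) {U : X.Opens} {r r' : Γ(X, U)}
    (hr : IsScalarOn φ U r) (hr' : IsScalarOn φ U r') : r = r' := by
  by_cases hU : (U : Set X).Nonempty
  · obtain ⟨x, hx⟩ := hU
    obtain ⟨V, hV, hxV, hVU⟩ := exists_isAffineOpen_mem_and_subset hx
    haveI : Nonempty V := ⟨⟨x, hxV⟩⟩
    refine map_injective_of_isIntegral X (homOfLE hVU) ?_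
    obtain ⟨k, hk⟩ := exists_ne_zero W hW ⟨V, hV⟩
    have h := congrArg (inc W V) ((hr V hVU k).symm.trans (hr' V hVU k))
    rw [map_smul, map_smul, smul_eq_mul, smul_eq_mul] at h
    exact mul_right_cancel₀ (fun h0 => hk (inc_injective W V (h0.trans (map_zero _).symm))) h
  · haveI : Subsingleton Γ(X, U) := CommRingCat.subsingleton_of_isTerminal
      (X.sheaf.isTerminalOfEqEmpty (Opens.ext (Set.not_nonempty_iff_eq_empty.1 hU)))
    exact Subsingleton.elim _ _

theorem exists_isScalarOn [IsLocallyNoetherian X] (hX : Pi1.IsNormalScheme X)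
    (φ : ClSub.idealMod W ⟶ ClSub.idealMod W) (U : X.affineOpens) [Nonempty U.1] :
    ∃ r, IsScalarOn φ U.1 r := by
  haveI : IsNoetherianRing Γ(X, U.1) := IsLocallyNoetherian.component_noetherian U
  haveI := (S9821.result X).1 hX U.1 U.2
  haveI : Module.Finite Γ(X, U.1) (Id W U.1) := Module.Finite.of_injective (inc W U.1) (inc_injective W U.1)
  let ψ : Id W U.1 →ₗ[Γ(X, U.1)] Id W U.1 :=
    { toFun := fun k => φ.app U.1 k
      map_add' := fun a b => map_add _ a b
      map_smul' := fun r k => Scheme.Modules.Hom.app_smul φ r k }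
  obtain ⟨r, hr⟩ := exists_scalar (inc W U.1) (inc_injective W U.1) ψ
  refine ⟨r, fun V hV k => eq_of_locally _ _ fun x hx => ?_⟩
  obtain ⟨g, hgV, hxg⟩ := U.2.exists_basicOpen_le ⟨x, hx⟩ (hV hx)
  refine ⟨X.basicOpen g, hgV, hxg, ?_⟩
  rw [res_smul, resR_resR, ← app_res φ hgV k]
  generalize res (ClSub.idealMod W) hgV k = k'
  apply inc_injective W
  haveI := U.2.isLocalization_basicOpen g
  obtain ⟨⟨a, _, n, rfl⟩, hs⟩ := IsLocalization.surj (Submonoid.powers g)
    (show Γ(X, X.basicOpen g) from inc W (X.basicOpen g) k')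
  have hmem : OmegaSh.idealSect W (X.basicOpen g) k' ∈ W.ideal ⟨_, U.2.basicOpen g⟩ :=
    OmegaLib.idealSect_mem W ⟨_, U.2.basicOpen g⟩ k'
  rw [← W.map_ideal (V := U) (U := ⟨_, U.2.basicOpen g⟩) (X.basicOpen_le g)] at hmem
  obtain ⟨⟨⟨b, hb⟩, ⟨_, m, rfl⟩⟩, hm⟩ :=
    (IsLocalization.mem_map_algebraMap_iff (Submonoid.powers g) Γ(X, X.basicOpen g)).1 hmem
  obtain ⟨k₀, hk₀⟩ := OmegaLib.exists_of_mem W U b hb
  have hu : IsUnit (algebraMap Γ(X, U.1) Γ(X, X.basicOpen g) (g ^ m)) :=
    IsLocalization.map_units _ (⟨g ^ m, m, rfl⟩ : Submonoid.powers g)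
  refine hu.mul_right_cancel ?_
  rw [map_smul, smul_eq_mul]
  show _ * algebraMap Γ(X, U.1) Γ(X, X.basicOpen g) (g ^ m) = _
  let c : Γ(X, X.basicOpen g) := algebraMap Γ(X, U.1) Γ(X, X.basicOpen g) (g ^ m)
  have e : c • k' = res (ClSub.idealMod W) (X.basicOpen_le g) k₀ := inc_injective W _ (by
    rw [map_smul, smul_eq_mul, mul_comm]
    show _ = OmegaSh.idealSect W (X.basicOpen g) ((ClSub.idealMod W).presheaf.map (homOfLE (X.basicOpen_le g)).op k₀)
    rw [OmegaLib.idealSect_map, hk₀]
    exact hm)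
  have h1 := congrArg (φ.app (X.basicOpen g)) e
  rw [Scheme.Modules.Hom.app_smul, app_res, show φ.app U.1 k₀ = r • k₀ from hr k₀, res_smul, ← e, smul_comm] at h1
  have h2 := congrArg (inc W (X.basicOpen g)) h1
  rw [map_smul, map_smul, map_smul, smul_eq_mul, smul_eq_mul, smul_eq_mul] at h2
  linear_combination h2

/-- Every endomorphism of the ideal is multiplication by a global function. -/
theorem exists_global [IsLocallyNoetherian X] (hX : Pi1.IsNormalScheme X) (hW : W ≠ ⊥)
    (φ : ClSub.idealMod W ⟶ ClSub.idealMod W) : ∃ r, IsScalarOn φ ⊤ r := by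
  let ι := {U : X.affineOpens // Nonempty U.1}
  choose r hr using fun i : ι => haveI := i.2; exists_isScalarOn hX φ i.1
  have hcov : ∀ x : X, ∃ i : ι, x ∈ i.1.1 := fun x => by
    obtain ⟨V, hV, hxV, -⟩ := exists_isAffineOpen_mem_and_subset (show x ∈ (⊤ : X.Opens) from trivial)
    exact ⟨⟨⟨V, hV⟩, ⟨⟨x, hxV⟩⟩⟩, hxV⟩
  obtain ⟨c, hc, -⟩ := TopCat.Sheaf.existsUnique_gluing' X.sheaf (fun i : ι => i.1.1) ⊤
    (fun _ => homOfLE le_top) (fun x _ => Opens.mem_iSup.2 (hcov x)) r
    fun i j => IsScalarOn.unique hW ((hr i).res inf_le_left) ((hr j).res inf_le_right)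
  refine ⟨c, fun V hV k => eq_of_locally _ _ fun x hx => ?_⟩
  obtain ⟨i, hi⟩ := hcov x
  refine ⟨V ⊓ i.1.1, inf_le_left, ⟨hx, hi⟩, ?_⟩
  rw [res_smul, resR_resR, ← app_res, hr i _ inf_le_right]
  refine congrArg (· • _) ?_
  show resR inf_le_right (r i) = _
  rw [← (show resR (le_top : i.1.1 ≤ ⊤) c = r i from hc i), resR_resR]

theorem geometricallyConnected {K : Type u} [Field K] (X : Scheme.{u}) [X.Over (Spec (CommRingCat.of K))]
    [GeometricallyIrreducible (X ↘ Spec (CommRingCat.of K))] :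
    GeometricallyConnected (X ↘ Spec (CommRingCat.of K)) := by
  refine ⟨geometrically_iff_of_commRing_of_isClosedUnderIsomorphisms.mpr fun L _ _ => ?_⟩
  haveI : IrreducibleSpace ↥(pullback (X ↘ Spec (CommRingCat.of K)) (Spec.map (CommRingCat.ofHom (algebraMap K L)))) :=
    pullback_of_geometrically GeometricallyIrreducible.geometrically_irreducibleSpace L _
  infer_instance

/-- Endomorphisms of an ideal sheaf are the scalars. -/
theorem exists_smul_id {K : Type u} [Field K] {X : Scheme.{u}} [X.Over (Spec (CommRingCat.of K))] [IsIntegral X]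
    [Smooth (X ↘ Spec (CommRingCat.of K))] [IsProper (X ↘ Spec (CommRingCat.of K))]
    [GeometricallyIrreducible (X ↘ Spec (CommRingCat.of K))] (hX : Pi1.IsNormalScheme X)
    {W : X.IdealSheafData} (hW : W ≠ ⊥) (φ : ClSub.idealMod W ⟶ ClSub.idealMod W) :
    ∃ c : K, φ = c • 𝟙 _ := by
  haveI : IsLocallyNoetherian X := LocallyOfFiniteType.isLocallyNoetherian (X ↘ Spec (CommRingCat.of K))
  haveI := (S1628.result K X).1
  haveI := geometricallyConnected (K := K) X
  obtain ⟨r, hr⟩ := exists_global hX hW φ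
  have h1 := GeomField.finrank_globalFunctions_eq_one K X
  letI := GeomField.globalAlgebra K X
  obtain ⟨c, hc⟩ := exists_smul_eq_of_finrank_eq_one h1 (one_ne_zero (α := Γ(X, ⊤))) r
  refine ⟨c, Scheme.Modules.hom_ext _ _ fun V => ?_⟩
  ext k
  rw [KLin.smul_def, Category.comp_id]
  refine (hr V le_top k).trans ?_
  rw [← hc, Algebra.smul_def, mul_one]
  rfl

end Groth.Agent.RankOneEnd
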